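import Mathlib.RingTheory.Nakayama
import Mathlib.RingTheory.LocalRing.Module
import Mathlib.RingTheory.Support
import Mathlib.Algebra.Module.Projective
import Mathlib.LinearAlgebra.Matrix.NonsingularInverse
import Mathlib.LinearAlgebra.DirectSum.Finsupp
import Mathlib.LinearAlgebra.Dual.Lemmas
import Mathlib.RingTheory.LocalRing.ResidueField.Ideal
import Mathlib.Algebra.Module.LocalizedModule.Basic

/-!
Left invertibility of maps to projective modules, at a prime.
-/

universe u

open TensorProduct

namespace Groth.Agent.Lib.LeftInv45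

variable {A : Type u} [CommRing A] {M N : Type u} [AddCommGroup M] [Module A M] [AddCommGroup N] [Module A N]

/-- The functional on `k ⊗ N` induced by a functional on `N`. -/
noncomputable def bar (k : Type u) [Field k] [Algebra A k] (φ : N →ₗ[A] A) : k ⊗[A] N →ₗ[k] k :=
  (TensorProduct.AlgebraTensorModule.rid A k k).toLinearMap ∘ₗ φ.baseChange k

theorem bar_tmul (k : Type u) [Field k] [Algebra A k] (φ : N →ₗ[A] A) (c : k) (y : N) :
    bar k φ (c ⊗ₜ y) = φ y • c := rfl

theorem separating [Module.Projective A N] (k : Type u) [Field k] [Algebra A k] (z : k ⊗[A] N)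
    (h : ∀ φ : N →ₗ[A] A, bar k φ z = 0) : z = 0 := by
  classical
  obtain ⟨s, hs⟩ := Module.projective_def'.mp (inferInstance : Module.Projective A N)
  let e := TensorProduct.finsuppScalarRight A k k N
  have key : ∀ (z : k ⊗[A] N) (y : N), e (s.baseChange k z) y = bar k ((Finsupp.lapply y) ∘ₗ s) z := fun z y => by
    induction z using TensorProduct.induction_on with
    | zero => simp
    | tmul c x =>
      rw [bar_tmul, LinearMap.baseChange_tmul, TensorProduct.finsuppScalarRight_apply_tmul_apply]
      rfl
    | add a b ha hb => simp only [map_add, Finsupp.add_apply, ha, hb]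
  have h0 : s.baseChange k z = 0 := e.injective (Finsupp.ext fun y => by rw [key, h, map_zero]; rfl)
  have h1 : ((Finsupp.linearCombination A id).baseChange k) (s.baseChange k z) = z := by
    rw [← LinearMap.comp_apply, ← LinearMap.baseChange_comp, hs, LinearMap.baseChange_id]
    rfl
  rw [← h1, h0, map_zero]

/-- Functionals detecting linearly independent elements of `k ⊗ N`. -/
theorem exists_det_ne_zero [Module.Projective A N] (k : Type u) [Field k] [Algebra A k] {ι : Type} [Fintype ι]
    [DecidableEq ι] (y : ι → N) (hy : LinearIndependent k fun i => (1 : k) ⊗ₜ[A] y i) :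
    ∃ φ : ι → (N →ₗ[A] A), algebraMap A k (Matrix.of fun i j => φ j (y i)).det ≠ 0 := by
  classical
  let R : (N →ₗ[A] A) → (ι → k) := fun φ i => algebraMap A k (φ (y i))
  have hspan : Submodule.span k (Set.range R) = ⊤ := by
    rw [← Subspace.dualAnnihilator_inj, Submodule.dualAnnihilator_top, eq_bot_iff]
    intro f hf
    rw [Submodule.mem_dualAnnihilator] at hf
    rw [Submodule.mem_bot]
    let c : ι → k := fun i => f (Pi.single i 1)
    have hfc : ∀ v : ι → k, f v = ∑ i, v i * c i := fun v => by
      conv_lhs => rw [← Finset.univ_sum_single v]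
      rw [map_sum]
      refine Finset.sum_congr rfl fun i _ => ?_
      rw [show Pi.single i (v i) = v i • (Pi.single i (1 : k) : ι → k) by
        rw [← Pi.single_smul, smul_eq_mul, mul_one], map_smul, smul_eq_mul]
    have h0 : (∑ i, c i • ((1 : k) ⊗ₜ[A] y i)) = 0 := separating k _ fun φ => by
      rw [map_sum]
      simp only [map_smul, bar_tmul, Algebra.smul_def, Algebra.algebraMap_self, RingHom.id_apply, mul_one]
      have := hf (R φ) (Submodule.subset_span ⟨φ, rfl⟩)
      rw [hfc] at this
      rw [← this]
      exact Finset.sum_congr rfl fun i _ => mul_comm _ _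
    refine LinearMap.ext fun v => ?_
    rw [hfc, LinearMap.zero_apply]
    exact Finset.sum_eq_zero fun i _ => by rw [Fintype.linearIndependent_iff.mp hy c h0 i, mul_zero]
  obtain ⟨b, hbs, hbspan, hbli⟩ := exists_linearIndependent k (Set.range R)
  rw [hspan] at hbspan
  let B := Module.Basis.mk hbli (by rw [Subtype.range_coe]; exact hbspan.ge)
  haveI : Fintype b := FiniteDimensional.fintypeBasisIndex B
  have hcard : Fintype.card b = Fintype.card ι := by
    rw [← Module.finrank_eq_card_basis B, Module.finrank_fintype_fun_eq_card]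
  let e := (Fintype.equivOfCardEq hcard).symm
  choose φ hφ using fun i : ι => hbs (e i).2
  refine ⟨φ, ?_⟩
  have hli : LinearIndependent k fun j : ι => R (φ j) := by
    simp only [hφ]
    exact hbli.comp e e.injective
  rw [RingHom.map_det]
  have : IsUnit ((algebraMap A k).mapMatrix (Matrix.of fun i j => φ j (y i))) :=
    Matrix.linearIndependent_cols_iff_isUnit.mp hli
  exact ((Matrix.isUnit_iff_isUnit_det _).mp this).ne_zero

/-- Injectivity at the residue field of `p` gives a left inverse up to some `f ∉ p`. -/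
theorem exists_smul_id_of_injective [Module.Finite A M] [Module.Projective A N] (u : M →ₗ[A] N) (p : Ideal A) [p.IsPrime]
    (h : Function.Injective (u.lTensor p.ResidueField)) :
    ∃ f ∉ p, ∃ w : N →ₗ[A] M, w ∘ₗ u = f • LinearMap.id := by
  classical
  obtain ⟨s, hs⟩ := Module.Finite.fg_top (R := A) (M := M)
  let k := p.ResidueField
  have hspan : Submodule.span k (Set.range fun x : (s : Set M) => (1 : k) ⊗ₜ[A] (x : M)) = ⊤ := by
    rw [eq_top_iff]
    rintro z -
    induction z using TensorProduct.induction_on with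
    | zero => exact zero_mem _
    | add a b ha hb => exact add_mem ha hb
    | tmul c x =>
      rw [← mul_one c, ← smul_eq_mul, ← TensorProduct.smul_tmul']
      refine Submodule.smul_mem _ c ?_
      have hx : x ∈ Submodule.span A (s : Set M) := hs.symm ▸ Submodule.mem_top
      induction hx using Submodule.span_induction with
      | mem y hy => exact Submodule.subset_span ⟨⟨y, hy⟩, rfl⟩
      | zero => rw [TensorProduct.tmul_zero]; exact zero_mem _
      | add a b _ _ ha hb => rw [TensorProduct.tmul_add]; exact add_mem ha hb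
      | smul a y _ hy => rw [TensorProduct.tmul_smul]; exact Submodule.smul_of_tower_mem _ a hy
  obtain ⟨b, hbs, hbspan, hbli⟩ := exists_linearIndependent k (Set.range fun x : (s : Set M) => (1 : k) ⊗ₜ[A] (x : M))
  rw [hspan] at hbspan
  haveI : Fintype b := (Set.Finite.subset (Set.finite_range _) hbs).fintype
  let e := (Fintype.equivFin b).symm
  choose x' hx' using fun i => hbs (e i).2
  let x : Fin (Fintype.card b) → M := fun i => (x' i : M)
  have hx : ∀ i, (1 : k) ⊗ₜ[A] x i = (e i : k ⊗[A] M) := hx'
  have hli : LinearIndependent k fun i => (1 : k) ⊗ₜ[A] u (x i) := by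
    have h1 : LinearIndependent k fun i => (1 : k) ⊗ₜ[A] x i := by
      simp only [hx]; exact hbli.comp e e.injective
    exact h1.map' (u.baseChange k) (LinearMap.ker_eq_bot.mpr h)
  obtain ⟨φ, hdet⟩ := exists_det_ne_zero k (fun i => u (x i)) hli
  set D := Matrix.of fun i j => φ j (u (x i))
  -- Nakayama at `p`
  let X := Submodule.span A (Set.range x)
  obtain ⟨g, hgp, hg⟩ : ∃ g ∉ p, ∀ m : M, g • m ∈ X := by
    have hle : (⊤ : Submodule A M) ≤ ⊤ := le_rfl
    have h0 : ∀ z : k ⊗[A] (M ⧸ X), z = 0 := fun z => by
      obtain ⟨z, rfl⟩ := LinearMap.lTensor_surjective k X.mkQ_surjective z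
      have hz : z ∈ Submodule.span k (Set.range fun i => (1 : k) ⊗ₜ[A] x i) := by
        have : Set.range (fun i => (1 : k) ⊗ₜ[A] x i) = b := by
          ext w; constructor
          · rintro ⟨i, rfl⟩; dsimp only; rw [hx]; exact (e i).2
          · intro hw; exact ⟨e.symm ⟨w, hw⟩, by dsimp only; rw [hx, Equiv.apply_symm_apply]⟩
        rw [this, hbspan]; trivial
      change (X.mkQ.baseChange k) z = 0
      induction hz using Submodule.span_induction with
      | mem w hw =>
        obtain ⟨i, rfl⟩ := hw
        rw [LinearMap.baseChange_tmul, (Submodule.Quotient.mk_eq_zero X).mpr (Submodule.subset_span ⟨i, rfl⟩) |> fun h => (show X.mkQ (x i) = 0 from h), TensorProduct.tmul_zero]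
      | zero => rw [map_zero]
      | add a b _ _ ha hb => rw [map_add, ha, hb, add_zero]
      | smul c a _ ha => rw [map_smul, ha, smul_zero]
    have hsupp : (⟨p, inferInstance⟩ : PrimeSpectrum A) ∉ Module.support A (M ⧸ X) := by
      rw [Module.mem_support_iff_nontrivial_residueField_tensorProduct]
      exact not_nontrivial_iff_subsingleton.mpr ⟨fun a b => (h0 a).trans (h0 b).symm⟩
    rw [Module.mem_support_iff_of_finite, SetLike.not_le_iff_exists] at hsupp
    obtain ⟨g, hg, hgp⟩ := hsupp
    exact ⟨g, hgp, fun m => (Submodule.Quotient.mk_eq_zero X).mp (by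
      rw [Submodule.Quotient.mk_smul]; exact Module.mem_annihilator.mp hg _)⟩
  -- the left inverse up to `g * det D`
  let W : N →ₗ[A] M := ∑ i, (∑ j, D.adjugate j i • φ j).smulRight (x i)
  have hW : ∀ i, W (u (x i)) = D.det • x i := fun i => by
    have : ∀ i', (∑ j, D.adjugate j i' * φ j (u (x i))) = (D * D.adjugate) i i' := fun i' => by
      rw [Matrix.mul_apply]
      exact Finset.sum_congr rfl fun j _ => mul_comm _ _
    simp only [W, LinearMap.sum_apply, LinearMap.smulRight_apply, LinearMap.smul_apply, smul_eq_mul, this,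
      Matrix.mul_adjugate, Matrix.smul_apply, Matrix.one_apply]
    simp
  refine ⟨g * D.det, fun hmem => ?_, g • W, LinearMap.ext fun m => ?_⟩
  · rcases (inferInstance : p.IsPrime).mem_or_mem hmem with hm | hm
    · exact hgp hm
    · exact hdet (Ideal.algebraMap_residueField_eq_zero.mpr hm)
  have hX : ∀ y ∈ X, W (u y) = D.det • y := fun y hy => by
    induction hy using Submodule.span_induction with
    | mem w hw => obtain ⟨i, rfl⟩ := hw; exact hW i
    | zero => simp
    | add a b _ _ ha hb => rw [map_add, map_add, ha, hb, smul_add]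
    | smul c a _ ha => rw [map_smul, map_smul, ha, smul_comm]
  rw [LinearMap.comp_apply, LinearMap.smul_apply, ← map_smul W, ← map_smul u, hX _ (hg m), LinearMap.smul_apply,
    LinearMap.id_apply, smul_smul, mul_comm]

/-- Criterion implies a left inverse on localisations. -/
theorem exists_localized_inverse (u : M →ₗ[A] N) (S : Submonoid A) {f : A} (hf : f ∈ S) {w : N →ₗ[A] M}
    (hw : w ∘ₗ u = f • LinearMap.id) :
    ∃ w' : LocalizedModule S N →ₗ[A] LocalizedModule S M, w' ∘ₗ LocalizedModule.map S u = LinearMap.id := by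
  obtain ⟨e, he⟩ := IsLocalizedModule.map_units (LocalizedModule.mkLinearMap S M) ⟨f, hf⟩
  refine ⟨(↑e⁻¹ : Module.End A (LocalizedModule S M)) ∘ₗ (LocalizedModule.map S w).restrictScalars A, LinearMap.ext fun z => ?_⟩
  induction z using LocalizedModule.induction_on with
  | h m s =>
    show (↑e⁻¹ : Module.End A (LocalizedModule S M)) (LocalizedModule.map S w (LocalizedModule.map S u (LocalizedModule.mk m s))) = _
    rw [LocalizedModule.map_mk, LocalizedModule.map_mk, ← LinearMap.comp_apply, hw, LinearMap.smul_apply, LinearMap.id_apply,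
      ← LocalizedModule.smul'_mk]
    have h1 : (e : Module.End A (LocalizedModule S M)) (LocalizedModule.mk m s) = f • LocalizedModule.mk m s := by
      rw [he]; rfl
    rw [← h1, ← Module.End.mul_apply, Units.inv_mul]
    rfl

/-- A left inverse after localising in the complement of `p` gives injectivity at `k(p)`. -/
theorem injective_of_localized_inverse (u : M →ₗ[A] N) (S : Submonoid A) (p : Ideal A) [p.IsPrime]
    (hS : ∀ s ∈ S, s ∉ p) (w : LocalizedModule S N →ₗ[A] LocalizedModule S M)
    (hw : w ∘ₗ LocalizedModule.map S u = LinearMap.id) :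
    Function.Injective (u.lTensor p.ResidueField) := by
  classical
  let k := p.ResidueField
  have hu : ∀ s : S, IsUnit (algebraMap A (Module.End A (k ⊗[A] M)) s) := fun s => by
    have hne : algebraMap A k s ≠ 0 := fun h => hS s s.2 (Ideal.algebraMap_residueField_eq_zero.mp h)
    refine (Module.End.isUnit_iff _).mpr ⟨fun a b hab => ?_, fun b => ⟨(algebraMap A k s)⁻¹ • b, ?_⟩⟩
    · change (s : A) • a = (s : A) • b at hab
      rw [← algebraMap_smul k, ← algebraMap_smul k (s : A) b] at hab
      exact smul_right_injective _ hne hab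
    · show (s : A) • ((algebraMap A k s)⁻¹ • b) = b
      rw [← algebraMap_smul k, smul_smul, mul_inv_cancel₀ hne, one_smul]
  let ψ : LocalizedModule S M →ₗ[A] k ⊗[A] M :=
    IsLocalizedModule.lift S (LocalizedModule.mkLinearMap S M) (TensorProduct.mk A k M 1) hu
  let Φ : k ⊗[A] LocalizedModule S M →ₗ[A] k ⊗[A] M :=
    TensorProduct.lift ((LinearMap.lsmul k (k ⊗[A] M)).restrictScalars₁₂ A A |>.compl₂ ψ)
  have hΦ : Φ ∘ₗ (LocalizedModule.mkLinearMap S M).lTensor k = LinearMap.id := TensorProduct.ext' fun c m => by
    show c • ψ (LocalizedModule.mkLinearMap S M m) = c ⊗ₜ m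
    rw [show ψ (LocalizedModule.mkLinearMap S M m) = (1 : k) ⊗ₜ m from IsLocalizedModule.lift_apply _ _ _ _ m,
      TensorProduct.smul_tmul', smul_eq_mul, mul_one]
  have hwm : w ∘ₗ LocalizedModule.mkLinearMap S N ∘ₗ u = LocalizedModule.mkLinearMap S M := LinearMap.ext fun m => by
    have := LinearMap.congr_fun hw (LocalizedModule.mkLinearMap S M m)
    simpa [LocalizedModule.map_mk] using this
  rw [injective_iff_map_eq_zero]
  intro z hz
  have h1 := LinearMap.congr_fun hΦ z
  rw [← hwm, LinearMap.lTensor_comp, LinearMap.lTensor_comp, LinearMap.comp_apply, LinearMap.comp_apply,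
    LinearMap.comp_apply, hz, map_zero, map_zero, map_zero] at h1
  exact h1.symm

/-- The criterion at all maximal ideals gives a left inverse. -/
theorem exists_leftInverse_of_forall_maximal (u : M →ₗ[A] N)
    (h : ∀ (m : Ideal A) [m.IsMaximal], ∃ f ∉ m, ∃ w : N →ₗ[A] M, w ∘ₗ u = f • LinearMap.id) :
    ∃ w : N →ₗ[A] M, w ∘ₗ u = LinearMap.id := by
  let J : Ideal A :=
    { carrier := {f | ∃ w : N →ₗ[A] M, w ∘ₗ u = f • LinearMap.id}
      zero_mem' := ⟨0, by rw [LinearMap.zero_comp, zero_smul]⟩
      add_mem' := fun {a b} ⟨v, hv⟩ ⟨w, hw⟩ => ⟨v + w, by rw [LinearMap.add_comp, hv, hw, add_smul]⟩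
      smul_mem' := fun c a ⟨v, hv⟩ => ⟨c • v, by rw [LinearMap.smul_comp, hv, smul_smul, smul_eq_mul]⟩ }
  have hJ : (1 : A) ∈ J := by
    rw [← Ideal.eq_top_iff_one]
    by_contra hne
    obtain ⟨m, hm, hle⟩ := Ideal.exists_le_maximal J hne
    obtain ⟨f, hf, hw⟩ := h m
    exact hf (hle hw)
  obtain ⟨w, hw⟩ := hJ
  exact ⟨w, by rw [hw, one_smul]⟩

end Groth.Agent.Lib.LeftInv45
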